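import Mathlib

open scoped TensorProduct

universe u v w w' u'

namespace Groth.Agent.DefModBC.Basic

variable {K : Type u} [Field K] {D : Type v} [Ring D] [Algebra K D]
  {E : Type w} [AddCommGroup E] [Module K E] [Module D E] [IsScalarTower K D E]
  {F : Type w'} [AddCommGroup F] [Module K F] [Module D F] [IsScalarTower K D F]
  {P : Type u'} [CommRing P] [Algebra K P]

section

variable {ι : Type*} [DecidableEq ι] (b : Module.Basis ι K P)

/-- coordinate -/
noncomputable def coord (j : ι) : P ⊗[K] F →ₗ[K] F :=
  (TensorProduct.lid K F).toLinearMap ∘ₗ (b.coord j).rTensor F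

theorem coord_tmul (j : ι) (p : P) (x : F) : coord b j (p ⊗ₜ[K] x) = b.repr p j • x := by
  simp [coord]

theorem coord_baseChange (j : ι) (ψ : F →ₗ[K] F) (t : P ⊗[K] F) :
    coord b j (ψ.baseChange P t) = ψ (coord b j t) := by
  induction t with
  | zero => simp
  | tmul p x => simp [coord_tmul]
  | add x y hx hy => simp [hx, hy]

theorem exists_finset_coord (t : P ⊗[K] F) :
    ∃ J : Finset ι, (∀ j ∉ J, coord b j t = 0) ∧ t = ∑ j ∈ J, b j ⊗ₜ[K] coord b j t := by
  classical
  let e := TensorProduct.equivFinsuppOfBasisLeft (N := F) b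
  have hc : ∀ j t, coord b j t = e t j := by
    intro j t
    induction t with
    | zero => simp
    | tmul p x => simp [coord_tmul, e]
    | add x y hx hy => simp [hx, hy]
  refine ⟨(e t).support, fun j hj => by simpa [hc] using hj, ?_⟩
  simp only [hc]
  have := e.symm_apply_apply t
  rw [TensorProduct.equivFinsuppOfBasisLeft_symm_apply] at this
  exact this.symm

end

theorem injective_and_range [Module.Finite D E]
    (Φ : P ⊗[K] (E →ₗ[D] F) →ₗ[P] (P ⊗[K] E →ₗ[P] P ⊗[K] F))
    (hΦ : ∀ (p : P) (f : E →ₗ[D] F), Φ (p ⊗ₜ[K] f) = p • (f.restrictScalars K).baseChange P) :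
    Function.Injective Φ ∧
      ∀ g : P ⊗[K] E →ₗ[P] P ⊗[K] F,
        g ∈ LinearMap.range Φ ↔
          ∀ d : D, g ∘ₗ (DistribSMul.toLinearMap K E d).baseChange P =
            (DistribSMul.toLinearMap K F d).baseChange P ∘ₗ g := by
  classical
  let b := Module.Free.chooseBasis K P
  refine ⟨?_, fun g => ⟨?_, fun hg => ?_⟩⟩
  · rw [injective_iff_map_eq_zero]
    intro a ha
    obtain ⟨J, hJ0, hJ⟩ := exists_finset_coord (F := E →ₗ[D] F) b a
    have : ∀ j ∈ J, coord (F := E →ₗ[D] F) b j a = 0 := by
      intro j hj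
      ext x
      have h0 : coord (F := F) b j (Φ a (1 ⊗ₜ[K] x)) = 0 := by simp [ha]
      rw [hJ, map_sum] at h0
      simpa [hΦ, TensorProduct.smul_tmul', coord_tmul, Finsupp.single_apply, hj] using h0
    rw [hJ, Finset.sum_eq_zero fun j hj => by rw [this j hj, TensorProduct.tmul_zero]]
  · rintro ⟨a, rfl⟩ d
    induction a with
    | zero => simp
    | tmul p f => ext x; simp [hΦ, TensorProduct.smul_tmul']
    | add x y hx hy => simp [LinearMap.add_comp, LinearMap.comp_add, hx, hy]
  · let gj : Module.Free.ChooseBasisIndex K P → (E →ₗ[D] F) := fun j =>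
      { toFun := fun x => coord b j (g (1 ⊗ₜ[K] x))
        map_add' := fun x y => by simp [TensorProduct.tmul_add]
        map_smul' := fun d x => by
          have := LinearMap.congr_fun (hg d) (1 ⊗ₜ[K] x)
          simp only [LinearMap.coe_comp, Function.comp_apply, LinearMap.baseChange_tmul,
            DistribSMul.toLinearMap_apply] at this
          rw [this, coord_baseChange]
          rfl }
    obtain ⟨s, hs⟩ := Module.Finite.fg_top (R := D) (M := E)
    choose J hJ0 hJ using fun x : E => exists_finset_coord (F := F) b (g (1 ⊗ₜ[K] x))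
    have hvanish : ∀ j ∉ s.biUnion J, gj j = 0 := by
      intro j hj
      apply LinearMap.ext_on (by exact hs : Submodule.span D (s : Set E) = ⊤)
      intro x hx
      exact hJ0 x j fun h => hj (Finset.mem_biUnion.mpr ⟨x, hx, h⟩)
    refine ⟨∑ j ∈ s.biUnion J, b j ⊗ₜ[K] gj j, ?_⟩
    ext x
    have key : g (1 ⊗ₜ[K] x) = ∑ j ∈ s.biUnion J, b j ⊗ₜ[K] gj j x := by
      conv_lhs => rw [hJ x]
      rw [Finset.sum_subset (Finset.subset_union_left (s₂ := s.biUnion J))
        (fun j _ hj => by rw [hJ0 x j hj, TensorProduct.tmul_zero])]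
      refine (Finset.sum_subset Finset.subset_union_right (fun j _ hj => ?_)).symm
      have := LinearMap.congr_fun (hvanish j hj) x
      rw [show coord b j (g (1 ⊗ₜ[K] x)) = gj j x from rfl, this, LinearMap.zero_apply,
        TensorProduct.tmul_zero]
    simp [hΦ, TensorProduct.smul_tmul', key]

variable (K D E) in
/-- irreducibility after base change to `L` -/
abbrev Irr (L : Type u') [Field L] [Algebra K L] : Prop :=
  Nontrivial (L ⊗[K] E) ∧ ∀ N : Submodule L (L ⊗[K] E), (∀ (d : D) (x : L ⊗[K] E), x ∈ N →
    (DistribSMul.toLinearMap K E d).baseChange L x ∈ N) → N = ⊥ ∨ N = ⊤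

theorem nontrivial_of_nontrivial {L : Type u'} [Field L] [Algebra K L] (h : Nontrivial (L ⊗[K] E))
    (M : Type*) [Field M] [Algebra K M] : Nontrivial (M ⊗[K] E) := by
  have : Nontrivial E := by
    by_contra hE
    rw [not_nontrivial_iff_subsingleton] at hE
    exact not_subsingleton (L ⊗[K] E) inferInstance
  exact Module.FaithfullyFlat.lTensor_nontrivial K M E

theorem irr_of_tower {L M : Type u} [Field L] [Field M] [Algebra K L] [Algebra K M]
    (σ : L →ₐ[K] M) (h : Irr K D E M) : Irr K D E L := by
  obtain ⟨hM, hN⟩ := h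
  refine ⟨nontrivial_of_nontrivial hM L, fun N hst => ?_⟩
  let ι : L ⊗[K] E →ₗ[K] M ⊗[K] E := σ.toLinearMap.rTensor E
  let _ := σ.toRingHom.toAlgebra
  obtain ⟨r, hr⟩ := LinearMap.exists_leftInverse_of_injective (Algebra.linearMap L M)
    (LinearMap.ker_eq_bot.mpr σ.toRingHom.injective)
  have : IsScalarTower K L M := IsScalarTower.of_algebraMap_eq fun x => (σ.commutes x).symm
  let ρ : M →ₗ[K] L := r.restrictScalars K
  have hρι : ∀ y, ρ.rTensor E (ι y) = y := by
    intro y
    induction y with
    | zero => simp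
    | tmul l e =>
      simp only [ι, ρ, LinearMap.rTensor_tmul, LinearMap.restrictScalars_apply]
      exact congrArg (· ⊗ₜ[K] e) (LinearMap.congr_fun hr l)
    | add x y hx hy => simp [hx, hy]
  have hρ : ∀ (m : M) (y : L ⊗[K] E), ρ.rTensor E (m • ι y) = r m • y := by
    intro m y
    induction y with
    | zero => simp
    | tmul l e =>
      simp only [ι, ρ, LinearMap.rTensor_tmul, TensorProduct.smul_tmul', smul_eq_mul,
        LinearMap.restrictScalars_apply]
      congr 1
      have : m * σ.toLinearMap l = l • m := by rw [Algebra.smul_def, mul_comm]; rfl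
      rw [this, map_smul, smul_eq_mul, mul_comm]
    | add x y hx hy => simp [hx, hy, smul_add]
  let N' : Submodule M (M ⊗[K] E) := Submodule.span M (ι '' N)
  have hstab : ∀ (d : D) (x : M ⊗[K] E), x ∈ N' →
      (DistribSMul.toLinearMap K E d).baseChange M x ∈ N' := by
    intro d x hx
    induction hx using Submodule.span_induction with
    | mem x hx =>
      obtain ⟨y, hy, rfl⟩ := hx
      refine Submodule.subset_span ⟨_, hst d y hy, ?_⟩
      clear hy
      induction y with
      | zero => simp
      | tmul l e => simp [ι]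
      | add x y hx hy => simp [hx, hy]
    | zero => simp
    | add x y _ _ hx hy => rw [map_add]; exact add_mem hx hy
    | smul m x _ hx => rw [map_smul]; exact Submodule.smul_mem _ m hx
  rcases hN N' hstab with h0 | h1
  · left
    rw [Submodule.eq_bot_iff]
    intro y hy
    have : ι y ∈ N' := Submodule.subset_span ⟨y, hy, rfl⟩
    rw [h0, Submodule.mem_bot] at this
    rw [← hρι y, this, map_zero]
  · right
    rw [Submodule.eq_top_iff']
    intro y
    have : ι y ∈ N' := h1 ▸ Submodule.mem_top
    rw [← hρι y]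
    generalize ι y = z at this
    induction this using Submodule.closure_induction with
    | zero => simp
    | add x y _ _ hx hy => rw [map_add]; exact N.add_mem hx hy
    | smul_mem m x hx =>
      obtain ⟨y, hy, rfl⟩ := hx
      rw [hρ]; exact N.smul_mem _ hy

theorem irr_of_finite {M : Type u} [Field M] [Algebra K M] [Algebra.IsAlgebraic K M]
    (h : ∀ (L : Type u) [Field L] [Algebra K L] [FiniteDimensional K L], Irr K D E L) :
    Irr K D E M := by
  classical
  refine ⟨nontrivial_of_nontrivial (h K).1 M, fun N hst => ?_⟩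
  refine or_iff_not_imp_left.mpr fun hne => ?_
  obtain ⟨x, hx, hx0⟩ := Submodule.exists_mem_ne_zero_of_ne_bot hne
  obtain ⟨S, hS⟩ := TensorProduct.exists_finset x
  let L : IntermediateField K M := IntermediateField.adjoin K ((S.image Prod.fst : Finset M) : Set M)
  have : FiniteDimensional K L := IntermediateField.finiteDimensional_adjoin
    fun a _ => (Algebra.IsAlgebraic.isAlgebraic a).isIntegral
  let ι : L ⊗[K] E →ₗ[K] M ⊗[K] E := L.val.toLinearMap.rTensor E
  have hι : ∀ (l : L) (y : L ⊗[K] E), ι (l • y) = (l : M) • ι y := by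
    intro l y
    induction y with
    | zero => simp
    | tmul a e => simp [ι, TensorProduct.smul_tmul']
    | add x y hx hy => simp [hx, hy, smul_add]
  let N₀ : Submodule L (L ⊗[K] E) :=
    { carrier := {y | ι y ∈ N}
      add_mem' := fun {a b} ha hb => by simpa using N.add_mem ha hb
      zero_mem' := by simp
      smul_mem' := fun l y hy => by
        simp only [Set.mem_setOf_eq, hι]
        exact N.smul_mem _ hy }
  let x₀ : L ⊗[K] E := ∑ i ∈ S.attach,
    (⟨i.1.1, IntermediateField.subset_adjoin K _ (Finset.mem_image_of_mem Prod.fst i.2)⟩ : L)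
      ⊗ₜ[K] i.1.2
  have hx₀ : ι x₀ = x := by
    rw [hS, ← Finset.sum_attach S]
    simp [x₀, ι]
  have hstab : ∀ (d : D) (y : L ⊗[K] E), y ∈ N₀ →
      (DistribSMul.toLinearMap K E d).baseChange L y ∈ N₀ := by
    intro d y hy
    show ι _ ∈ N
    have : ι ((DistribSMul.toLinearMap K E d).baseChange L y) =
        (DistribSMul.toLinearMap K E d).baseChange M (ι y) := by
      clear hy
      induction y with
      | zero => simp
      | tmul l e => simp [ι]
      | add x y hx hy => simp [hx, hy]
    rw [this]
    exact hst d _ hy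
  rcases (h L).2 N₀ hstab with h0 | h1
  · have : x₀ ∈ N₀ := by show ι x₀ ∈ N; rwa [hx₀]
    rw [h0, Submodule.mem_bot] at this
    exact absurd (by rw [← hx₀, this, map_zero]) hx0
  · rw [Submodule.eq_top_iff']
    intro z
    induction z with
    | zero => simp
    | tmul m e =>
      have h' : ι ((1 : L) ⊗ₜ[K] e) ∈ N := (h1.symm ▸ Submodule.mem_top : _ ∈ N₀)
      have := N.smul_mem m h'
      simpa [ι, TensorProduct.smul_tmul'] using this
    | add a b ha hb => exact N.add_mem ha hb

theorem exists_scalar (M : Type u') [Field M] [Algebra K M] [IsAlgClosed M]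
    [Module.Finite K (E →ₗ[D] E)] (habs : Irr K D E M) (φ : E →ₗ[D] E) :
    ∃ c : K, ∀ x, φ x = c • x := by
  obtain ⟨hnt, hN⟩ := habs
  let res : Module.End D E →ₐ[K] Module.End K E :=
    { toFun := fun f => f.restrictScalars K
      map_one' := rfl
      map_mul' := fun _ _ => rfl
      map_zero' := rfl
      map_add' := fun _ _ => rfl
      commutes' := fun c => by ext x; simp }
  let f : Module.End D E →ₐ[K] Module.End M (M ⊗[K] E) :=
    (Module.End.baseChangeHom K M E).comp res
  let T := f φ
  have hf : ∀ x : E, T ((1 : M) ⊗ₜ[K] x) = (1 : M) ⊗ₜ[K] φ x := fun x => by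
    simp [T, f, res, Module.End.baseChangeHom]
  have hint : IsIntegral M T := by
    obtain ⟨p, hp, hp0⟩ := Algebra.IsIntegral.isIntegral (R := K) (A := Module.End D E) φ
    refine ⟨p.map (algebraMap K M), hp.map _, ?_⟩
    rw [← Polynomial.aeval_def, Polynomial.aeval_map_algebraMap]
    rw [← Polynomial.aeval_def] at hp0
    exact (Polynomial.aeval_algHom_apply f φ p).trans ((congrArg f hp0).trans (map_zero f))
  have hdeg : (minpoly M T).degree ≠ 0 := (minpoly.degree_pos hint).ne'
  obtain ⟨l, hl⟩ := IsAlgClosed.exists_root (minpoly M T) hdeg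
  obtain ⟨q, hq⟩ := Polynomial.dvd_iff_isRoot.mpr hl
  have hq0 : Polynomial.aeval T q ≠ 0 := by
    intro h0
    have hqne : q ≠ 0 := by
      rintro rfl; exact minpoly.ne_zero hint (by simpa using hq)
    have := Polynomial.degree_le_of_dvd (minpoly.dvd M T h0) hqne
    rw [hq, Polynomial.degree_mul, Polynomial.degree_X_sub_C,
      Polynomial.degree_eq_natDegree hqne] at this
    norm_cast at this
    omega
  obtain ⟨z, hz⟩ : ∃ z, Polynomial.aeval T q z ≠ 0 := by
    by_contra hall
    push Not at hall
    exact hq0 (LinearMap.ext fun z => by rw [hall z]; rfl)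
  let N : Submodule M (M ⊗[K] E) := LinearMap.ker (T - algebraMap M _ l)
  have hzN : Polynomial.aeval T q z ∈ N := by
    have h := minpoly.aeval M T
    rw [hq, map_mul, map_sub, Polynomial.aeval_X, Polynomial.aeval_C] at h
    exact LinearMap.congr_fun h z
  have hstab : ∀ (d : D) (x : M ⊗[K] E), x ∈ N →
      (DistribSMul.toLinearMap K E d).baseChange M x ∈ N := by
    intro d x hx
    have hc : ∀ y, T ((DistribSMul.toLinearMap K E d).baseChange M y) =
        (DistribSMul.toLinearMap K E d).baseChange M (T y) := by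
      intro y
      induction y with
      | zero => simp
      | tmul m e => simp [T, f, res, Module.End.baseChangeHom]
      | add x y hx hy => simp [hx, hy]
    simp only [N, LinearMap.mem_ker, LinearMap.sub_apply, Module.algebraMap_end_apply] at hx ⊢
    rw [hc, ← map_smul, ← map_sub, hx, map_zero]
  rcases hN N hstab with h0 | h1
  · exact absurd (by rwa [h0, Submodule.mem_bot] at hzN) hz
  · have hT : ∀ y, T y = l • y := fun y => by
      have : y ∈ N := h1 ▸ Submodule.mem_top
      simpa [N, sub_eq_zero] using this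
    have hE : Nontrivial E := by
      by_contra hE
      rw [not_nontrivial_iff_subsingleton] at hE
      exact not_subsingleton (M ⊗[K] E) inferInstance
    obtain ⟨x₀, hx₀⟩ := exists_ne (0 : E)
    obtain ⟨ℓ, hℓ⟩ := Module.Projective.exists_dual_ne_zero K hx₀
    let ℓ' : M ⊗[K] E →ₗ[K] M := (TensorProduct.rid K M).toLinearMap ∘ₗ ℓ.lTensor M
    refine ⟨(ℓ x₀)⁻¹ * ℓ (φ x₀), fun x => ?_⟩
    have h : (ℓ (φ x₀)) • (1 : M) = ℓ x₀ • l := by
      have h := congrArg ℓ' ((hf x₀).symm.trans (hT _))
      simpa [ℓ', TensorProduct.smul_tmul', TensorProduct.rid_tmul] using h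
    have hl' : l = ((ℓ x₀)⁻¹ * ℓ (φ x₀)) • (1 : M) := by
      rw [mul_smul, h, inv_smul_smul₀ hℓ]
    apply Module.FaithfullyFlat.tensorProduct_mk_injective (A := K) (B := M) E
    simp only [TensorProduct.mk_apply]
    rw [← hf, hT, hl', TensorProduct.smul_tmul', smul_eq_mul, mul_one, TensorProduct.smul_tmul]

end Groth.Agent.DefModBC.Basic
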